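import Mathlib

set_option autoImplicit false
set_option linter.style.haveILetI false

universe w v u

open CategoryTheory Category Limits Pretriangulated DerivedCategory

namespace Groth.Agent.Helper6NC.BddCx

variable {C : Type u} [Category.{v} C] [Abelian C] [HasDerivedCategory.{w} C]

/-- dévissage of bounded complexes by brutal truncation: a property of objects of the derived
category which is stable under isomorphisms, shifts and extensions holds for a bounded complex
as soon as it holds for each of its terms placed in degree `0`. -/
theorem prop_of_bounded_complex (P : DerivedCategory C → Prop)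
    (hiso : ∀ {K L : DerivedCategory C}, (K ≅ L) → P K → P L)
    (hshift : ∀ (K : DerivedCategory C) (n : ℤ), P K → P (K⟦n⟧))
    (hext : ∀ T : Triangle (DerivedCategory C), T ∈ distTriang _ → P T.obj₁ → P T.obj₃ →
      P T.obj₂)
    (n : ℕ) : ∀ (K : CochainComplex C ℤ) (a b : ℤ),
      (∀ i : ℤ, i < a ∨ b < i → IsZero (K.X i)) → b < a + n →
      (∀ i : ℤ, P ((singleFunctor C 0).obj (K.X i))) → P (Q.obj K) := by
  have hzero : ∀ (K : CochainComplex C ℤ), (∀ i : ℤ, IsZero (K.X i)) →
      P ((singleFunctor C 0).obj (K.X 0)) → P (Q.obj K) := by
    intro K hK h0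
    have hz : IsZero K := by
      rw [IsZero.iff_id_eq_zero]
      ext i
      exact (hK i).eq_of_src _ _
    have hz1 : IsZero (Q.obj K) := Functor.map_isZero _ hz
    have hz2 : IsZero ((singleFunctor C 0).obj (K.X 0)) := Functor.map_isZero _ (hK 0)
    exact hiso (hz2.iso hz1) h0
  induction n with
  | zero =>
    intro K a b hK0 hab hK
    exact hzero K (fun i => hK0 i (by omega)) (hK 0)
  | succ n ih =>
    intro K a b hK0 hab hK
    by_cases hlt : b < a
    · exact hzero K (fun i => hK0 i (by omega)) (hK 0)
    · have hKa : ∀ i, (ComplexShape.up ℤ).Rel i a → K.d i a ≫ 𝟙 (K.X a) = 0 := by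
        intro i hi
        have hi' : i + 1 = a := hi
        exact (hK0 i (Or.inl (by omega))).eq_of_src _ _
      obtain ⟨π, hπa⟩ : ∃ π : K ⟶ (HomologicalComplex.single C (ComplexShape.up ℤ) a).obj (K.X a),
          π.f a = 𝟙 (K.X a) ≫
            (HomologicalComplex.singleObjXSelf (ComplexShape.up ℤ) a (K.X a)).inv :=
        ⟨HomologicalComplex.mkHomToSingle (𝟙 (K.X a)) hKa,
          HomologicalComplex.mkHomToSingle_f _ _⟩
      haveI hπepi : Epi π := by
        apply HomologicalComplex.epi_of_epi_f
        intro i
        by_cases hi : i = a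
        · subst hi
          rw [hπa]
          infer_instance
        · exact ⟨fun _ _ _ =>
            (HomologicalComplex.isZero_single_obj_X (ComplexShape.up ℤ) a (K.X a) i hi).eq_of_src
              _ _⟩
      have hS : (ShortComplex.mk (kernel.ι π) π (kernel.condition π)).ShortExact :=
        { exact := ShortComplex.exact_of_f_is_kernel _ (kernelIsKernel π)
          mono_f := inferInstanceAs (Mono (kernel.ι π))
          epi_g := hπepi }
      have hT := triangleOfSES_distinguished hS
      have hSi : ∀ i : ℤ, ((ShortComplex.mk (kernel.ι π) π (kernel.condition π)).map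
          (HomologicalComplex.eval C (ComplexShape.up ℤ) i)).ShortExact :=
        fun i => hS.map_of_exact _
      have hmono : ∀ i : ℤ, Mono ((kernel.ι π).f i) := fun i => (hSi i).mono_f
      have hK'iso : ∀ i : ℤ, i ≠ a → IsIso ((kernel.ι π).f i) := by
        intro i hi
        haveI := hmono i
        haveI : Epi ((kernel.ι π).f i) := (hSi i).exact.epi_f
          ((HomologicalComplex.isZero_single_obj_X (ComplexShape.up ℤ) a (K.X a) i hi).eq_of_tgt
            _ _)
        exact isIso_of_mono_of_epi _
      have hK'zero : IsZero ((kernel π).X a) := by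
        haveI := hmono a
        apply IsZero.of_mono_eq_zero ((kernel.ι π).f a)
        haveI : Mono (π.f a) := by
          rw [hπa]
          infer_instance
        rw [← cancel_mono (π.f a), zero_comp, ← HomologicalComplex.comp_f, kernel.condition,
          HomologicalComplex.zero_f]
      have r1 : P (Q.obj (kernel π)) := by
        refine ih (kernel π) (a + 1) b (fun i hi => ?_) (by omega) (fun i => ?_)
        · by_cases hia : i = a
          · subst hia
            exact hK'zero
          · haveI := hmono i
            exact IsZero.of_mono ((kernel.ι π).f i) (hK0 i (by omega))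
        · by_cases hia : i = a
          · subst hia
            exact hiso ((singleFunctor C 0).mapIso ((hK0 (i - 1) (Or.inl (by omega))).iso
              hK'zero)) (hK (i - 1))
          · haveI := hK'iso i hia
            exact hiso ((singleFunctor C 0).mapIso (asIso ((kernel.ι π).f i)).symm) (hK i)
      have r3 : P (Q.obj ((HomologicalComplex.single C (ComplexShape.up ℤ) a).obj (K.X a))) :=
        hiso (((singleFunctors C).shiftIso (-a) a 0 (by omega)).app (K.X a) ≪≫
          (singleFunctorIsoCompQ C a).app (K.X a)) (hshift _ (-a) (hK a))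
      exact hext _ hT r1 r3

theorem prop_of_bounded_complex' (P : DerivedCategory C → Prop)
    (hiso : ∀ {K L : DerivedCategory C}, (K ≅ L) → P K → P L)
    (hshift : ∀ (K : DerivedCategory C) (n : ℤ), P K → P (K⟦n⟧))
    (hext : ∀ T : Triangle (DerivedCategory C), T ∈ distTriang _ → P T.obj₁ → P T.obj₃ →
      P T.obj₂)
    (K : CochainComplex C ℤ) (a b : ℤ)
    (hK0 : ∀ i : ℤ, i < a ∨ b < i → IsZero (K.X i))
    (hK : ∀ i : ℤ, P ((singleFunctor C 0).obj (K.X i))) : P (Q.obj K) := by
  have h0 := Int.self_le_toNat (b - a + 1)
  exact prop_of_bounded_complex P hiso hshift hext (b - a + 1).toNat K a b hK0 (by omega) hK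

end Groth.Agent.Helper6NC.BddCx
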