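import Mathlib

set_option autoImplicit false
set_option linter.style.haveILetI false

universe w v u

open CategoryTheory Category Limits Pretriangulated DerivedCategory

namespace Groth.Agent.Helper6NC.PerfTri

section General

variable {C : Type u} [Category.{v} C] [Abelian C] [HasDerivedCategory.{w} C]

/-- closure conditions on a class of complexes. -/
structure Good (W : CochainComplex C ℤ → Prop) : Prop where
  lift : ∀ {E E' : CochainComplex C ℤ}, W E → W E' → ∀ φ : Q.obj E ⟶ Q.obj E',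
    ∃ f : E ⟶ E', Q.map f = φ
  shift : ∀ (E : CochainComplex C ℤ) (n : ℤ), W E → W (E⟦n⟧)
  cone : ∀ {E E' : CochainComplex C ℤ} (f : E ⟶ E'), W E → W E' →
    W (CochainComplex.mappingCone f)

/-- objects of the derived category represented by a complex in the class. -/
def Rep (W : CochainComplex C ℤ → Prop) (K : DerivedCategory C) : Prop :=
  ∃ E, W E ∧ Nonempty (Q.obj E ≅ K)

variable {W : CochainComplex C ℤ → Prop}

lemma lift_of_kproj {E E' : CochainComplex C ℤ} [E.IsKProjective]
    (φ : Q.obj E ⟶ Q.obj E') : ∃ f : E ⟶ E', Q.map f = φ := by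
  obtain ⟨ψ, hψ⟩ := (CochainComplex.IsKProjective.Qh_map_bijective E
    ((HomotopyCategory.quotient _ _).obj E')).2 φ
  obtain ⟨f, rfl⟩ := (HomotopyCategory.quotient _ _).map_surjective ψ
  exact ⟨f, hψ⟩

lemma lift_of_kinj {E E' : CochainComplex C ℤ} [E'.IsKInjective]
    (φ : Q.obj E ⟶ Q.obj E') : ∃ f : E ⟶ E', Q.map f = φ := by
  obtain ⟨ψ, hψ⟩ := (CochainComplex.IsKInjective.Qh_map_bijective
    ((HomotopyCategory.quotient _ _).obj E) E').2 φ
  obtain ⟨f, rfl⟩ := (HomotopyCategory.quotient _ _).map_surjective ψ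
  exact ⟨f, hψ⟩

lemma rep_of_iso {K L : DerivedCategory C} (e : K ≅ L) (h : Rep W K) : Rep W L := by
  obtain ⟨E, hE, ⟨i⟩⟩ := h
  exact ⟨E, hE, ⟨i ≪≫ e⟩⟩

lemma rep_shift (h : Good W) {K : DerivedCategory C} (n : ℤ) (hK : Rep W K) :
    Rep W (K⟦n⟧) := by
  obtain ⟨E, hE, ⟨i⟩⟩ := hK
  exact ⟨E⟦n⟧, h.shift E n hE,
    ⟨(Q.commShiftIso n).app E ≪≫ (shiftFunctor (DerivedCategory C) n).mapIso i⟩⟩

lemma rep_of_shift (h : Good W) {K : DerivedCategory C} (n : ℤ) (hK : Rep W (K⟦n⟧)) :
    Rep W K :=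
  rep_of_iso (shiftShiftNeg K n) (rep_shift h (-n) hK)

lemma rep_cone (h : Good W) (T : Triangle (DerivedCategory C)) (hT : T ∈ distTriang _)
    (h₁ : Rep W T.obj₁) (h₂ : Rep W T.obj₂) : Rep W T.obj₃ := by
  obtain ⟨E, hE, ⟨e₁⟩⟩ := h₁
  obtain ⟨E', hE', ⟨e₂⟩⟩ := h₂
  obtain ⟨f, hf⟩ := h.lift hE hE' (e₁.hom ≫ T.mor₁ ≫ e₂.inv)
  have hT' := mappingCone_triangle_distinguished f
  have comm : (Q.mapTriangle.obj (CochainComplex.mappingCone.triangle f)).mor₁ ≫ e₂.hom =
      e₁.hom ≫ T.mor₁ := by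
    show Q.map f ≫ e₂.hom = e₁.hom ≫ T.mor₁
    rw [hf, assoc, assoc, Iso.inv_hom_id, comp_id]
  have iso := isoTriangleOfIso₁₂ _ T hT' hT e₁ e₂ comm
  exact ⟨CochainComplex.mappingCone f, h.cone f hE hE', ⟨Triangle.π₃.mapIso iso⟩⟩

theorem two_of_three (h : Good W) (T : Triangle (DerivedCategory C)) (hT : T ∈ distTriang _) :
    (Rep W T.obj₁ → Rep W T.obj₂ → Rep W T.obj₃) ∧
    (Rep W T.obj₁ → Rep W T.obj₃ → Rep W T.obj₂) ∧
    (Rep W T.obj₂ → Rep W T.obj₃ → Rep W T.obj₁) := by
  refine ⟨rep_cone h T hT, fun h₁ h₃ => ?_, fun h₂ h₃ => ?_⟩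
  · exact rep_cone h T.invRotate (inv_rot_of_distTriang _ hT) (rep_shift h (-1) h₃) h₁
  · exact rep_of_shift h 1 (rep_cone h T.rotate (rot_of_distTriang _ hT) h₂ h₃)

end General

section Module

variable {R : Type u} [Ring R]

/-- terms of the mapping cone as products of modules. -/
noncomputable def coneEquiv {E E' : CochainComplex (ModuleCat.{u} R) ℤ} (f : E ⟶ E') (i : ℤ) :
    (CochainComplex.mappingCone f).X i ≃ₗ[R] (E.X (i + 1) × E'.X i) :=
  (HomologicalComplex.homotopyCofiber.XIsoBiprod f i (i + 1) (by simp) ≪≫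
    ModuleCat.biprodIsoProd _ _).toLinearEquiv

lemma cone_isZero {E E' : CochainComplex (ModuleCat.{u} R) ℤ} (f : E ⟶ E') (i : ℤ)
    (h1 : IsZero (E.X (i + 1))) (h2 : IsZero (E'.X i)) :
    IsZero ((CochainComplex.mappingCone f).X i) := by
  haveI := ModuleCat.subsingleton_of_isZero h1
  haveI := ModuleCat.subsingleton_of_isZero h2
  haveI : Subsingleton ((CochainComplex.mappingCone f).X i) :=
    (coneEquiv f i).toEquiv.subsingleton
  exact ModuleCat.isZero_of_subsingleton _

/-- bounded above complexes of finite free modules. -/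
def PC (E : CochainComplex (ModuleCat.{u} R) ℤ) : Prop :=
  ∃ b : ℤ, (∀ i : ℤ, b < i → IsZero (E.X i)) ∧
    ∀ i : ℤ, Module.Finite R (E.X i) ∧ Module.Free R (E.X i)

/-- bounded complexes of finite projective modules. -/
def PF (E : CochainComplex (ModuleCat.{u} R) ℤ) : Prop :=
  ∃ a b : ℤ, (∀ i : ℤ, i < a ∨ b < i → IsZero (E.X i)) ∧
    ∀ i : ℤ, Module.Finite R (E.X i) ∧ Module.Projective R (E.X i)

lemma kproj_of_bdd (E : CochainComplex (ModuleCat.{u} R) ℤ) (b : ℤ)
    (hb : ∀ i : ℤ, b < i → IsZero (E.X i)) (hp : ∀ i : ℤ, Module.Projective R (E.X i)) :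
    E.IsKProjective := by
  haveI : E.IsStrictlyLE b := by
    rw [CochainComplex.isStrictlyLE_iff]
    exact hb
  haveI : ∀ i, Projective (E.X i) := fun i => by
    haveI := hp i
    exact ModuleCat.projective_of_categoryTheory_projective _
  exact CochainComplex.isKProjective_of_projective E b

variable [HasDerivedCategory.{w} (ModuleCat.{u} R)]

lemma good_PC : Good (C := ModuleCat.{u} R) PC where
  lift := by
    rintro E E' ⟨b, hb, hE⟩ _ φ
    haveI := kproj_of_bdd E b hb (fun i => by haveI := (hE i).2; infer_instance)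
    exact lift_of_kproj φ
  shift := by
    rintro E n ⟨b, hb, hE⟩
    exact ⟨b - n, fun i hi => hb (i + n) (by omega), fun i => hE (i + n)⟩
  cone := by
    rintro E E' f ⟨b, hb, hE⟩ ⟨b', hb', hE'⟩
    refine ⟨max b b', fun i hi => ?_, fun i => ?_⟩
    · exact cone_isZero f i (hb _ (by omega)) (hb' _ (by omega))
    · haveI := (hE (i + 1)).1
      haveI := (hE (i + 1)).2
      haveI := (hE' i).1
      haveI := (hE' i).2
      exact ⟨Module.Finite.equiv (coneEquiv f i).symm, Module.Free.of_equiv (coneEquiv f i).symm⟩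

lemma good_PF : Good (C := ModuleCat.{u} R) PF where
  lift := by
    rintro E E' ⟨a, b, hb, hE⟩ _ φ
    haveI := kproj_of_bdd E b (fun i hi => hb i (Or.inr hi)) (fun i => (hE i).2)
    exact lift_of_kproj φ
  shift := by
    rintro E n ⟨a, b, hb, hE⟩
    exact ⟨a - n, b - n, fun i hi => hb (i + n) (by omega), fun i => hE (i + n)⟩
  cone := by
    rintro E E' f ⟨a, b, hb, hE⟩ ⟨a', b', hb', hE'⟩
    refine ⟨min (a - 1) a', max b b', fun i hi => ?_, fun i => ?_⟩
    · exact cone_isZero f i (hb _ (by omega)) (hb' _ (by omega))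
    · haveI := (hE (i + 1)).1
      haveI := (hE (i + 1)).2
      haveI := (hE' i).1
      haveI := (hE' i).2
      exact ⟨Module.Finite.equiv (coneEquiv f i).symm,
        Module.Projective.of_equiv (coneEquiv f i).symm⟩

/-- bounded complexes of injective modules. -/
def PI (E : CochainComplex (ModuleCat.{u} R) ℤ) : Prop :=
  ∃ a b : ℤ, (∀ i : ℤ, i < a ∨ b < i → IsZero (E.X i)) ∧
    ∀ i : ℤ, Module.Injective R (E.X i)

lemma kinj_of_bdd (E : CochainComplex (ModuleCat.{u} R) ℤ) (a : ℤ)
    (ha : ∀ i : ℤ, i < a → IsZero (E.X i)) (hi : ∀ i : ℤ, Module.Injective R (E.X i)) :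
    E.IsKInjective := by
  haveI : E.IsStrictlyGE a := by
    rw [CochainComplex.isStrictlyGE_iff]
    exact ha
  haveI : ∀ i, Injective (E.X i) := fun i => by
    haveI := hi i
    exact Module.injective_object_of_injective_module R (E.X i)
  exact CochainComplex.isKInjective_of_injective E a

lemma good_PI : Good (C := ModuleCat.{u} R) PI where
  lift := by
    rintro E E' _ ⟨a, b, hb, hE⟩ φ
    haveI := kinj_of_bdd E' a (fun i hi => hb i (Or.inl hi)) hE
    exact lift_of_kinj φ
  shift := by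
    rintro E n ⟨a, b, hb, hE⟩
    exact ⟨a - n, b - n, fun i hi => hb (i + n) (by omega), fun i => hE (i + n)⟩
  cone := by
    rintro E E' f ⟨a, b, hb, hE⟩ ⟨a', b', hb', hE'⟩
    refine ⟨min (a - 1) a', max b b', fun i hi => ?_, fun i => ?_⟩
    · exact cone_isZero f i (hb _ (by omega)) (hb' _ (by omega))
    · haveI : Injective (E.X (i + 1)) := by
        haveI := hE (i + 1)
        exact Module.injective_object_of_injective_module R (E.X (i + 1))
      haveI : Injective (E'.X i) := by
        haveI := hE' i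
        exact Module.injective_object_of_injective_module R (E'.X i)
      have hinj : Injective ((CochainComplex.mappingCone f).X i) :=
        Injective.of_iso
          (HomologicalComplex.homotopyCofiber.XIsoBiprod f i (i + 1) (by simp)).symm
          inferInstance
      exact (Module.injective_iff_injective_object R ((CochainComplex.mappingCone f).X i)).2 hinj

end Module

end Groth.Agent.Helper6NC.PerfTri
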