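import Mathlib

set_option autoImplicit false

namespace Groth.Agent.Helper6NC.ProjAmp

open CategoryTheory CategoryTheory.Limits CategoryTheory.Pretriangulated DerivedCategory

universe w v u
variable {C : Type u} [Category.{v} C] [Abelian C] [HasDerivedCategory.{w} C]

lemma hom_eq_zero (P : CochainComplex C ℤ) (a b : ℤ) [P.IsStrictlyGE a] [P.IsStrictlyLE b]
    [∀ i, Projective (P.X i)] (K : DerivedCategory C) [K.IsLE (a - 1)] (f : Q.obj P ⟶ K) :
    f = 0 := by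
  have hKP : P.IsKProjective := CochainComplex.isKProjective_of_projective P b
  obtain ⟨K₀, hK₀, ⟨e⟩⟩ := DerivedCategory.exists_iso_Q_obj_of_isLE K (a - 1)
  suffices h : ∀ g : Q.obj P ⟶ Q.obj K₀, g = 0 by
    have := h (f ≫ e.hom)
    rw [← cancel_mono e.hom, this, zero_comp]
  intro g
  let iP := (quotientCompQhIso C).app P
  let iK := (quotientCompQhIso C).app K₀
  obtain ⟨h, hh⟩ := (CochainComplex.IsKProjective.Qh_map_bijective P
    ((HomotopyCategory.quotient C (ComplexShape.up ℤ)).obj K₀)).2 (iP.hom ≫ g ≫ iK.inv)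
  obtain ⟨g₀, rfl⟩ := (HomotopyCategory.quotient C (ComplexShape.up ℤ)).map_surjective h
  have hg₀ : g₀ = 0 := by
    ext i
    by_cases hi : i < a
    · exact (P.isZero_of_isStrictlyGE a i hi).eq_of_src _ _
    · exact (K₀.isZero_of_isStrictlyLE (a - 1) i (by lia)).eq_of_tgt _ _
  have h0 : iP.hom ≫ g ≫ iK.inv = 0 := by
    rw [← hh, hg₀, Functor.map_zero, Functor.map_zero]
  have h1 : g = iP.inv ≫ (iP.hom ≫ g ≫ iK.inv) ≫ iK.hom := by simp
  rw [h1, h0, zero_comp, comp_zero]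

lemma split (P : CochainComplex C ℤ) (a b : ℤ) [P.IsStrictlyGE a] [P.IsStrictlyLE b]
    [∀ i, Projective (P.X i)] (T : Triangle (DerivedCategory C)) (hT : T ∈ distTriang _)
    (e : Q.obj P ≅ T.obj₃) [T.obj₁.IsLE a] [HasBinaryBiproduct T.obj₁ T.obj₃] :
    ∃ e' : T.obj₂ ≅ T.obj₁ ⊞ T.obj₃,
      T.mor₁ ≫ e'.hom = biprod.inl ∧ e'.hom ≫ biprod.snd = T.mor₂ := by
  have : (T.obj₁⟦(1 : ℤ)⟧).IsLE (a - 1) :=
    DerivedCategory.TStructure.t.isLE_shift T.obj₁ a 1 (a - 1) (by lia)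
  have h3 : T.mor₃ = 0 := by
    have := hom_eq_zero P a b (T.obj₁⟦(1 : ℤ)⟧) (e.hom ≫ T.mor₃)
    rw [← cancel_epi e.hom, this, comp_zero]
  obtain ⟨e', h1, h2⟩ := exists_iso_binaryBiproduct_of_distTriang T hT h3
  exact ⟨e', h1, h2.symm⟩

end Groth.Agent.Helper6NC.ProjAmp
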