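import Mathlib
import Groth.Agent.Lib.Helper6NC.PerfTri
import Groth.Agent.Lib.Helper6NC.ProjAmp

set_option autoImplicit false
set_option linter.style.haveILetI false

universe w v u

open CategoryTheory Category Limits Pretriangulated DerivedCategory

namespace Groth.Agent.Helper6NC.PCm

variable {C : Type u} [Category.{v} C] [Abelian C] [HasDerivedCategory.{w} C]

/-- `α` induces isomorphisms on `H^i` for `i > m` and an epimorphism on `H^m`. -/
def PCmap (m : ℤ) {X K : DerivedCategory C} (α : X ⟶ K) : Prop :=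
  (∀ i : ℤ, m < i → IsIso ((homologyFunctor C i).map α)) ∧ Epi ((homologyFunctor C m).map α)

/-- cone criterion. -/
lemma isLE_cone_iff (T : Triangle (DerivedCategory C)) (hT : T ∈ distTriang _) (m : ℤ) :
    T.obj₃.IsLE (m - 1) ↔ PCmap m T.mor₁ := by
  rw [DerivedCategory.isLE_iff]
  constructor
  · intro h
    have hepi : ∀ i : ℤ, m ≤ i → Epi ((homologyFunctor C i).map T.mor₁) := by
      intro i hi
      rw [HomologySequence.epi_homologyMap_mor₁_iff T hT i]
      exact (h i (by omega)).eq_of_tgt _ _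
    have hmono : ∀ i : ℤ, m < i → Mono ((homologyFunctor C i).map T.mor₁) := by
      intro i hi
      rw [HomologySequence.mono_homologyMap_mor₁_iff T hT (i - 1) i (by omega)]
      exact (h (i - 1) (by omega)).eq_of_src _ _
    refine ⟨fun i hi => ?_, hepi m le_rfl⟩
    haveI := hepi i hi.le
    haveI := hmono i hi
    exact isIso_of_mono_of_epi _
  · rintro ⟨hiso, hepi⟩ i hi
    have h1 : (homologyFunctor C i).map T.mor₂ = 0 := by
      rw [← HomologySequence.epi_homologyMap_mor₁_iff T hT i]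
      by_cases him : i = m
      · subst him
        exact hepi
      · haveI := hiso i (by omega)
        infer_instance
    have h2 : HomologySequence.δ T i (i + 1) rfl = 0 := by
      rw [← HomologySequence.mono_homologyMap_mor₁_iff T hT i (i + 1) rfl]
      haveI := hiso (i + 1) (by omega)
      infer_instance
    exact (HomologySequence.exact₃ T hT i (i + 1) rfl).isZero_of_both_zeros h1 h2

lemma pcmap_comp {m : ℤ} {X Y Z : DerivedCategory C} {f : X ⟶ Y} {g : Y ⟶ Z}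
    (hf : PCmap m f) (hg : PCmap m g) : PCmap m (f ≫ g) := by
  refine ⟨fun i hi => ?_, ?_⟩
  · haveI := hf.1 i hi
    haveI := hg.1 i hi
    rw [Functor.map_comp]
    infer_instance
  · haveI := hf.2
    haveI := hg.2
    rw [Functor.map_comp]
    exact epi_comp _ _

lemma pcmap_of_isIso (m : ℤ) {X Y : DerivedCategory C} (f : X ⟶ Y) [IsIso f] : PCmap m f :=
  ⟨fun _ _ => inferInstance, inferInstance⟩

lemma pcmap_mono {m m' : ℤ} (h : m ≤ m') {X Y : DerivedCategory C} {f : X ⟶ Y}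
    (hf : PCmap m f) : PCmap m' f := by
  refine ⟨fun i hi => hf.1 i (by omega), ?_⟩
  by_cases hm : m = m'
  · subst hm
    exact hf.2
  · haveI := hf.1 m' (by omega)
    infer_instance

lemma pcmap_of_isZero (m : ℤ) {X Y : DerivedCategory C} (f : X ⟶ Y) (hX : IsZero X)
    (hY : ∀ i : ℤ, m ≤ i → IsZero ((homologyFunctor C i).obj Y)) : PCmap m f := by
  refine ⟨fun i hi => ?_, ?_⟩
  · have h1 : IsZero ((homologyFunctor C i).obj X) := Functor.map_isZero _ hX
    exact ⟨0, h1.eq_of_src _ _, (hY i hi.le).eq_of_src _ _⟩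
  · exact ⟨fun g h _ => (hY m le_rfl).eq_of_src g h⟩

/-- the key step of the two-out-of-three property, via two octahedra. -/
theorem cone_core (T : Triangle (DerivedCategory C)) (hT : T ∈ distTriang _) (m : ℤ)
    (P : CochainComplex C ℤ) (b : ℤ) [P.IsStrictlyGE m] [P.IsStrictlyLE b]
    [∀ i, Projective (P.X i)]
    {X₂ : DerivedCategory C}
    (α₁ : Q.obj P ⟶ T.obj₁) (h₁ : PCmap (m + 1) α₁)
    (α₂ : X₂ ⟶ T.obj₂) (h₂ : PCmap m α₂) :
    ∃ (γ : Q.obj P ⟶ X₂) (Z : DerivedCategory C) (p : X₂ ⟶ Z) (q : Z ⟶ (Q.obj P)⟦(1 : ℤ)⟧)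
      (_ : Triangle.mk γ p q ∈ distTriang _) (α₃ : Z ⟶ T.obj₃), PCmap m α₃ := by
  obtain ⟨C₂, β₂, δ₂, hT₂⟩ := distinguished_cocone_triangle α₂
  haveI hC₂ : C₂.IsLE (m - 1) := (isLE_cone_iff _ hT₂ m).2 h₂
  have h0 : (α₁ ≫ T.mor₁) ≫ β₂ = 0 := ProjAmp.hom_eq_zero P m b C₂ _
  obtain ⟨γ, hγ⟩ := Triangle.coyoneda_exact₂ _ hT₂ (α₁ ≫ T.mor₁) h0
  obtain ⟨Z, p, q, hZ⟩ := distinguished_cocone_triangle γ
  obtain ⟨N, s, t, hN⟩ := distinguished_cocone_triangle (γ ≫ α₂)
  obtain ⟨C₁, β₁, δ₁, hT₁⟩ := distinguished_cocone_triangle α₁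
  haveI hC₁ : C₁.IsLE m := by
    have := (isLE_cone_iff _ hT₁ (m + 1)).2 h₁
    simpa using this
  have O1 := Triangulated.someOctahedron (u₁₂ := γ) (u₂₃ := α₂) rfl hZ hT₂ hN
  have O2 := Triangulated.someOctahedron (u₁₂ := α₁) (u₂₃ := T.mor₁) (v₂₃ := T.mor₂)
    (w₂₃ := T.mor₃) hγ hT₁ hT hN
  refine ⟨γ, Z, p, q, hZ, O1.m₁ ≫ O2.m₃, pcmap_comp ?_ ?_⟩
  · exact (isLE_cone_iff _ O1.mem m).1 hC₂
  · have hrot := rot_of_distTriang _ O2.mem
    have hs : (C₁⟦(1 : ℤ)⟧).IsLE (m - 1) :=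
      TStructure.t.isLE_shift C₁ m 1 (m - 1) (by omega)
    exact (isLE_cone_iff _ hrot m).1 hs

end Groth.Agent.Helper6NC.PCm
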