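import Mathlib
import Groth.Agent.Lib.Helper6NC.PCm1

set_option autoImplicit false
set_option linter.style.haveILetI false

universe w u

open CategoryTheory Category Limits Pretriangulated DerivedCategory ZeroObject

namespace Groth.Agent.Helper6NC.PCm

open Groth.Agent.Helper6NC.PerfTri

variable {R : Type u} [Ring R]

/-- brutal truncation `σ_{≥ n}` as a family of submodules. -/
def truncSub (E : CochainComplex (ModuleCat.{u} R) ℤ) (n i : ℤ) : Submodule R (E.X i) :=
  if n ≤ i then ⊤ else ⊥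

lemma truncSub_top (E : CochainComplex (ModuleCat.{u} R) ℤ) {n i : ℤ} (h : n ≤ i) :
    truncSub E n i = ⊤ := if_pos h

lemma truncSub_bot (E : CochainComplex (ModuleCat.{u} R) ℤ) {n i : ℤ} (h : ¬ n ≤ i) :
    truncSub E n i = ⊥ := if_neg h

lemma truncSub_d (E : CochainComplex (ModuleCat.{u} R) ℤ) (n i j : ℤ) (x : E.X i)
    (hx : x ∈ truncSub E n i) : (E.d i j).hom x ∈ truncSub E n j := by
  by_cases hij : i + 1 = j
  · by_cases hi : n ≤ i
    · rw [truncSub_top E (by omega : n ≤ j)]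
      exact Submodule.mem_top
    · rw [truncSub_bot E hi, Submodule.mem_bot] at hx
      rw [hx, map_zero]
      exact Submodule.zero_mem _
  · have h0 : E.d i j = 0 := E.shape i j hij
    simp [h0]

/-- the brutal truncation `σ_{≥ n} E`. -/
noncomputable def trunc (E : CochainComplex (ModuleCat.{u} R) ℤ) (n : ℤ) :
    CochainComplex (ModuleCat.{u} R) ℤ where
  X i := ModuleCat.of R (truncSub E n i)
  d i j := ModuleCat.ofHom ((E.d i j).hom.restrict (truncSub_d E n i j))
  shape i j hij := by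
    ext x
    simp [E.shape i j hij]
  d_comp_d' i j k _ _ := by
    ext x
    have h : (E.d j k).hom ((E.d i j).hom x.1) = 0 := by
      rw [← LinearMap.comp_apply, ← ModuleCat.hom_comp, E.d_comp_d]
      rfl
    simpa using h

/-- the inclusion `σ_{≥ n} E ⟶ E`. -/
noncomputable def truncι (E : CochainComplex (ModuleCat.{u} R) ℤ) (n : ℤ) : trunc E n ⟶ E where
  f i := ModuleCat.ofHom (truncSub E n i).subtype
  comm' i j _ := by
    ext x
    rfl

lemma trunc_isZero (E : CochainComplex (ModuleCat.{u} R) ℤ) (n i : ℤ) (h : i < n) :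
    IsZero ((trunc E n).X i) := by
  haveI : Subsingleton (truncSub E n i) := by
    rw [truncSub_bot E (by omega)]
    infer_instance
  exact ModuleCat.isZero_of_subsingleton (ModuleCat.of R (truncSub E n i))

lemma trunc_isZero' (E : CochainComplex (ModuleCat.{u} R) ℤ) (n i : ℤ) (h : IsZero (E.X i)) :
    IsZero ((trunc E n).X i) := by
  haveI : Subsingleton (E.X i) := ModuleCat.subsingleton_of_isZero h
  haveI : Subsingleton (truncSub E n i) := ⟨fun x y => Subtype.ext (Subsingleton.elim _ _)⟩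
  exact ModuleCat.isZero_of_subsingleton (ModuleCat.of R (truncSub E n i))

/-- in degrees `≥ n` the truncation agrees with the complex. -/
noncomputable def truncEquiv (E : CochainComplex (ModuleCat.{u} R) ℤ) (n i : ℤ) (h : n ≤ i) :
    truncSub E n i ≃ₗ[R] E.X i :=
  LinearEquiv.ofTop (truncSub E n i) (truncSub_top E h)

lemma trunc_finite_free (E : CochainComplex (ModuleCat.{u} R) ℤ) (n : ℤ)
    (hE : ∀ i, Module.Finite R (E.X i) ∧ Module.Free R (E.X i)) (i : ℤ) :
    Module.Finite R ((trunc E n).X i) ∧ Module.Free R ((trunc E n).X i) := by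
  by_cases h : n ≤ i
  · haveI := (hE i).1
    haveI := (hE i).2
    exact ⟨Module.Finite.equiv (truncEquiv E n i h).symm,
      Module.Free.of_equiv (truncEquiv E n i h).symm⟩
  · haveI : Subsingleton (truncSub E n i) := by
      rw [truncSub_bot E h]
      infer_instance
    exact ⟨inferInstanceAs (Module.Finite R (truncSub E n i)),
      inferInstanceAs (Module.Free R (truncSub E n i))⟩

section Derived

variable [HasDerivedCategory.{w} (ModuleCat.{u} R)]

lemma truncι_pcmap (E : CochainComplex (ModuleCat.{u} R) ℤ) (n : ℤ) :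
    PCmap n (Q.map (truncι E n)) := by
  haveI hmono : Mono (truncι E n) := by
    apply HomologicalComplex.mono_of_mono_f
    intro i
    exact (ModuleCat.mono_iff_injective _).2 (Submodule.injective_subtype _)
  have hS : (ShortComplex.mk (truncι E n) (cokernel.π (truncι E n))
      (cokernel.condition _)).ShortExact :=
    { exact := ShortComplex.exact_of_g_is_cokernel _ (cokernelIsCokernel _)
      mono_f := hmono
      epi_g := inferInstanceAs (Epi (cokernel.π (truncι E n))) }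
  have hT := triangleOfSES_distinguished hS
  have hSi : ∀ i : ℤ, ((ShortComplex.mk (truncι E n) (cokernel.π (truncι E n))
      (cokernel.condition _)).map
      (HomologicalComplex.eval _ (ComplexShape.up ℤ) i)).ShortExact :=
    fun i => hS.map_of_exact _
  haveI : (cokernel (truncι E n)).IsStrictlyLE (n - 1) := by
    rw [CochainComplex.isStrictlyLE_iff]
    intro i hi
    haveI hsurj : Epi ((truncι E n).f i) := by
      apply (ModuleCat.epi_iff_surjective _).2
      intro x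
      exact ⟨⟨x, by rw [truncSub_top E (by omega : n ≤ i)]; exact Submodule.mem_top⟩, rfl⟩
    have hg0 : (cokernel.π (truncι E n)).f i = 0 := by
      rw [← cancel_epi ((truncι E n).f i), ← HomologicalComplex.comp_f, cokernel.condition,
        HomologicalComplex.zero_f, comp_zero]
    haveI : Epi ((cokernel.π (truncι E n)).f i) := (hSi i).epi_g
    exact IsZero.of_epi_eq_zero _ hg0
  have hle : (Q.obj (cokernel (truncι E n))).IsLE (n - 1) := inferInstance
  exact (isLE_cone_iff _ hT n).1 hle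

end Derived

/-- bounded complexes of finite free modules. -/
def BF (E : CochainComplex (ModuleCat.{u} R) ℤ) : Prop :=
  ∃ a b : ℤ, (∀ i : ℤ, i < a ∨ b < i → IsZero (E.X i)) ∧
    ∀ i : ℤ, Module.Finite R (E.X i) ∧ Module.Free R (E.X i)

variable [HasDerivedCategory.{w} (ModuleCat.{u} R)]

lemma good_BF : Good (C := ModuleCat.{u} R) BF where
  lift := by
    rintro E E' ⟨a, b, hb, hE⟩ _ φ
    haveI := kproj_of_bdd E b (fun i hi => hb i (Or.inr hi))
      (fun i => by haveI := (hE i).2; infer_instance)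
    exact lift_of_kproj φ
  shift := by
    rintro E n ⟨a, b, hb, hE⟩
    exact ⟨a - n, b - n, fun i hi => hb (i + n) (by omega), fun i => hE (i + n)⟩
  cone := by
    rintro E E' f ⟨a, b, hb, hE⟩ ⟨a', b', hb', hE'⟩
    refine ⟨min (a - 1) a', max b b', fun i hi => ?_, fun i => ?_⟩
    · exact cone_isZero f i (hb _ (by omega)) (hb' _ (by omega))
    · haveI := (hE (i + 1)).1
      haveI := (hE (i + 1)).2
      haveI := (hE' i).1
      haveI := (hE' i).2
      exact ⟨Module.Finite.equiv (coneEquiv f i).symm,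
        Module.Free.of_equiv (coneEquiv f i).symm⟩

/-- `m`-pseudo-coherence. -/
def IsPC (m : ℤ) (K : DerivedCategory (ModuleCat.{u} R)) : Prop :=
  ∃ (E : CochainComplex (ModuleCat.{u} R) ℤ) (a b : ℤ) (α : Q.obj E ⟶ K),
    (∀ i : ℤ, i < a ∨ b < i → IsZero (E.X i)) ∧
    (∀ i : ℤ, Module.Finite R (E.X i) ∧ Module.Free R (E.X i)) ∧
    (∀ i : ℤ, m < i → IsIso ((homologyFunctor (ModuleCat.{u} R) i).map α)) ∧
    Epi ((homologyFunctor (ModuleCat.{u} R) m).map α)

lemma isPC_iff (m : ℤ) (K : DerivedCategory (ModuleCat.{u} R)) :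
    IsPC m K ↔ ∃ E, BF E ∧ ∃ α : Q.obj E ⟶ K, PCmap m α := by
  constructor
  · rintro ⟨E, a, b, α, h0, hE, h1, h2⟩
    exact ⟨E, ⟨a, b, h0, hE⟩, α, h1, h2⟩
  · rintro ⟨E, ⟨a, b, h0, hE⟩, α, h1, h2⟩
    exact ⟨E, a, b, α, h0, hE, h1, h2⟩

lemma isPC_comp {m : ℤ} {X K : DerivedCategory (ModuleCat.{u} R)} (hX : IsPC m X)
    (f : X ⟶ K) (hf : PCmap m f) : IsPC m K := by
  rw [isPC_iff] at hX ⊢
  obtain ⟨E, hE, α, hα⟩ := hX
  exact ⟨E, hE, α ≫ f, pcmap_comp hα hf⟩

lemma isPC_of_iso {m : ℤ} {K L : DerivedCategory (ModuleCat.{u} R)} (e : K ≅ L)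
    (h : IsPC m K) : IsPC m L :=
  isPC_comp h e.hom (pcmap_of_isIso m e.hom)

lemma isPC_mono {m m' : ℤ} (h : m ≤ m') {K : DerivedCategory (ModuleCat.{u} R)}
    (hK : IsPC m K) : IsPC m' K := by
  rw [isPC_iff] at hK ⊢
  obtain ⟨E, hE, α, hα⟩ := hK
  exact ⟨E, hE, α, pcmap_mono h hα⟩

lemma isPC_of_rep (m : ℤ) {K : DerivedCategory (ModuleCat.{u} R)} (h : Rep BF K) :
    IsPC m K := by
  obtain ⟨E, hE, ⟨e⟩⟩ := h
  rw [isPC_iff]
  exact ⟨E, hE, e.hom, pcmap_of_isIso m e.hom⟩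

lemma isPC_of_isLE (m : ℤ) (K : DerivedCategory (ModuleCat.{u} R)) [K.IsLE (m - 1)] :
    IsPC m K := by
  rw [isPC_iff]
  have hz : ∀ i : ℤ, IsZero ((0 : CochainComplex (ModuleCat.{u} R) ℤ).X i) := fun i =>
    Functor.map_isZero (HomologicalComplex.eval _ (ComplexShape.up ℤ) i) (isZero_zero _)
  refine ⟨0, ⟨0, 0, fun i _ => hz i, fun i => ?_⟩, 0, ?_⟩
  · haveI : Subsingleton ((0 : CochainComplex (ModuleCat.{u} R) ℤ).X i) :=
      ModuleCat.subsingleton_of_isZero (hz i)
    exact ⟨inferInstance, inferInstance⟩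
  · exact pcmap_of_isZero m _ (Functor.map_isZero Q (isZero_zero _))
      (fun i hi => K.isZero_of_isLE (m - 1) i (by omega))

lemma isPC_of_isZero (m : ℤ) (K : DerivedCategory (ModuleCat.{u} R)) (hK : IsZero K) :
    IsPC m K := by
  haveI : K.IsLE (m - 1) := by
    rw [isLE_iff]
    intro i _
    exact Functor.map_isZero _ hK
  exact isPC_of_isLE m K

/-- the witness can be chosen in degrees `≥ m`. -/
lemma isPC_trunc {m : ℤ} {K : DerivedCategory (ModuleCat.{u} R)} (h : IsPC m K) :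
    ∃ (E : CochainComplex (ModuleCat.{u} R) ℤ) (b : ℤ) (α : Q.obj E ⟶ K),
      (∀ i : ℤ, i < m → IsZero (E.X i)) ∧ (∀ i : ℤ, b < i → IsZero (E.X i)) ∧
      (∀ i : ℤ, Module.Finite R (E.X i) ∧ Module.Free R (E.X i)) ∧ PCmap m α := by
  obtain ⟨E, a, b, α, hE0, hE, h1, h2⟩ := h
  exact ⟨trunc E m, b, Q.map (truncι E m) ≫ α, fun i hi => trunc_isZero E m i hi,
    fun i hi => trunc_isZero' E m i (hE0 i (Or.inr hi)), trunc_finite_free E m hE,
    pcmap_comp (truncι_pcmap E m) ⟨h1, h2⟩⟩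

/-- first part of the two-out-of-three property. -/
theorem isPC_cone (T : Triangle (DerivedCategory (ModuleCat.{u} R))) (hT : T ∈ distTriang _)
    (m : ℤ) (h₁ : IsPC (m + 1) T.obj₁) (h₂ : IsPC m T.obj₂) : IsPC m T.obj₃ := by
  obtain ⟨E₁, b₁, α₁, hz₁, hb₁, hE₁, hα₁⟩ := isPC_trunc h₁
  obtain ⟨E₂, a₂, b₂, α₂, hE₂0, hE₂, h21, h22⟩ := h₂
  haveI : E₁.IsStrictlyGE m := by
    rw [CochainComplex.isStrictlyGE_iff]
    intro i hi
    exact hz₁ i (by omega)
  haveI : E₁.IsStrictlyLE b₁ := by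
    rw [CochainComplex.isStrictlyLE_iff]
    exact hb₁
  haveI : ∀ i, Projective (E₁.X i) := fun i => by
    haveI := (hE₁ i).2
    haveI : Module.Projective R (E₁.X i) := inferInstance
    exact ModuleCat.projective_of_categoryTheory_projective _
  obtain ⟨γ, Z, p, q, hZ, α₃, hα₃⟩ := cone_core T hT m E₁ b₁ α₁ hα₁ α₂ ⟨h21, h22⟩
  have hbf₁ : BF E₁ := ⟨m, b₁, fun i hi => hi.elim (fun h => hz₁ i (by omega)) (hb₁ i), hE₁⟩
  have hbf₂ : BF E₂ := ⟨a₂, b₂, hE₂0, hE₂⟩
  have hrep : Rep BF Z := rep_cone good_BF (Triangle.mk γ p q) hZ ⟨E₁, hbf₁, ⟨Iso.refl _⟩⟩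
    ⟨E₂, hbf₂, ⟨Iso.refl _⟩⟩
  exact isPC_comp (isPC_of_rep m hrep) α₃ hα₃

lemma isPC_shift {m : ℤ} {K : DerivedCategory (ModuleCat.{u} R)} (n : ℤ) (h : IsPC m K) :
    IsPC (m - n) (K⟦n⟧) := by
  obtain ⟨E, a, b, α, hE0, hE, h1, h2⟩ := h
  obtain ⟨C₁, β, δ, hT⟩ := distinguished_cocone_triangle α
  have hC : C₁.IsLE (m - 1) := (isLE_cone_iff _ hT m).2 ⟨h1, h2⟩
  have hTn := Triangle.shift_distinguished _ hT n
  have hCn : (C₁⟦n⟧).IsLE (m - n - 1) :=
    TStructure.t.isLE_shift C₁ (m - 1) n (m - n - 1) (by omega)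
  have hp := (isLE_cone_iff _ hTn (m - n)).1 hCn
  let α' : Q.obj (E⟦n⟧) ⟶ K⟦n⟧ := ((Q.commShiftIso n).app E).hom ≫
    ((Triangle.shiftFunctor _ n).obj (Triangle.mk α β δ)).mor₁
  have hp' : PCmap (m - n) α' :=
    pcmap_comp (pcmap_of_isIso (m - n) ((Q.commShiftIso n).app E).hom) hp
  rw [isPC_iff]
  exact ⟨E⟦n⟧, good_BF.shift E n ⟨a, b, hE0, hE⟩, α', hp'⟩

lemma isPC_shift' {m m' : ℤ} {K : DerivedCategory (ModuleCat.{u} R)} (n : ℤ) (h : IsPC m K)
    (hm : m' = m - n) : IsPC m' (K⟦n⟧) := by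
  subst hm
  exact isPC_shift n h

/-- the two-out-of-three property for `m`-pseudo-coherence. -/
theorem two_of_three (T : Triangle (DerivedCategory (ModuleCat.{u} R))) (hT : T ∈ distTriang _)
    (m : ℤ) :
    (IsPC (m + 1) T.obj₁ → IsPC m T.obj₂ → IsPC m T.obj₃) ∧
    (IsPC m T.obj₁ → IsPC m T.obj₃ → IsPC m T.obj₂) ∧
    (IsPC (m + 1) T.obj₂ → IsPC m T.obj₃ → IsPC (m + 1) T.obj₁) := by
  refine ⟨isPC_cone T hT m, fun h₁ h₃ => ?_, fun h₂ h₃ => ?_⟩
  · exact isPC_cone T.invRotate (inv_rot_of_distTriang _ hT) m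
      (isPC_shift' (-1) h₃ (by ring)) h₁
  · have h := isPC_cone T.rotate (rot_of_distTriang _ hT) m h₂ h₃
    exact isPC_of_iso (shiftShiftNeg T.obj₁ 1) (isPC_shift' (-1) h (by ring))

end Groth.Agent.Helper6NC.PCm
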