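import Mathlib
import Groth.Agent.Lib.Helper6NC.PCm4
import Groth.Agent.Lib.Helper6NC.PCm5

set_option autoImplicit false
set_option linter.style.haveILetI false

universe w u

open CategoryTheory Category Limits Pretriangulated DerivedCategory ZeroObject

namespace Groth.Agent.Helper6NC.PCm

open Groth.Agent.Helper6NC.PerfTri

variable {R : Type u} [Ring R] [HasDerivedCategory.{w} (ModuleCat.{u} R)]

/-- the inductive step in the construction of a bounded above complex of finite free modules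
representing an object which is `m`-pseudo-coherent for all `m`: one more term is attached. -/
theorem step (K₀ : CochainComplex (ModuleCat.{u} R) ℤ) (n b : ℤ) (hnb : n ≤ b + 1)
    (hK : IsPC (n - 1) (Q.obj K₀))
    (F : CochainComplex (ModuleCat.{u} R) ℤ)
    (hF0 : ∀ i : ℤ, i < n ∨ b < i → IsZero (F.X i))
    (hF : ∀ i : ℤ, Module.Finite R (F.X i) ∧ Module.Free R (F.X i))
    (a : F ⟶ K₀) (ha : PCmap n (Q.map a)) :
    ∃ (F' : CochainComplex (ModuleCat.{u} R) ℤ) (j : F ⟶ F') (a' : F' ⟶ K₀),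
      (∀ i : ℤ, i < n - 1 ∨ b < i → IsZero (F'.X i)) ∧
      (∀ i : ℤ, Module.Finite R (F'.X i) ∧ Module.Free R (F'.X i)) ∧
      j ≫ a' = a ∧ PCmap (n - 1) (Q.map a') ∧ ∀ i : ℤ, i ≠ n - 1 → IsIso (j.f i) := by
  have hbfF : BF F := ⟨n, b, hF0, hF⟩
  haveI hFkp : F.IsKProjective := kproj_of_bdd F b (fun i hi => hF0 i (Or.inr hi))
    (fun i => by haveI := (hF i).2; infer_instance)
  -- the cone of `a`
  obtain ⟨C₁, β, δ, hT⟩ := distinguished_cocone_triangle (Q.map a)
  haveI hC₁ : C₁.IsLE (n - 1) := (isLE_cone_iff _ hT n).2 ha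
  have hC₁pc : IsPC (n - 1) C₁ :=
    isPC_cone _ hT (n - 1) (isPC_of_rep _ ⟨F, hbfF, ⟨Iso.refl _⟩⟩) hK
  haveI hfin : Module.Finite R ((homologyFunctor (ModuleCat.{u} R) (n - 1)).obj C₁) :=
    finite_of_isPC hC₁pc (fun i hi => C₁.isZero_of_isLE (n - 1) i hi)
  obtain ⟨r, g, hg⟩ := Module.Finite.exists_fin' (R := R)
    (M := (homologyFunctor (ModuleCat.{u} R) (n - 1)).obj C₁)
  let P : ModuleCat.{u} R := ModuleCat.of R (Fin r → R)
  haveI : Epi (ModuleCat.ofHom g : P ⟶ (homologyFunctor (ModuleCat.{u} R) (n - 1)).obj C₁) :=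
    (ModuleCat.epi_iff_surjective _).2 hg
  haveI : Module.Projective R P := inferInstanceAs (Module.Projective R (Fin r → R))
  haveI : Projective P := ModuleCat.projective_of_categoryTheory_projective _
  obtain ⟨w, hw⟩ := exists_hom_from_single_epi P (n - 1) C₁ (ModuleCat.ofHom g)
  -- the cone of `w`
  obtain ⟨C', c, dw, hTw⟩ := distinguished_cocone_triangle w
  have hwpc : PCmap (n - 1) w := by
    refine ⟨fun i hi => ?_, hw⟩
    have h1 : IsZero ((homologyFunctor (ModuleCat.{u} R) i).obj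
        ((DerivedCategory.singleFunctor (ModuleCat.{u} R) (n - 1)).obj P)) :=
      ((DerivedCategory.singleFunctor (ModuleCat.{u} R) (n - 1)).obj P).isZero_of_isLE (n - 1) i hi
    exact ⟨0, h1.eq_of_src _ _, (C₁.isZero_of_isLE (n - 1) i hi).eq_of_src _ _⟩
  have hC' : C'.IsLE (n - 1 - 1) := (isLE_cone_iff _ hTw (n - 1)).2 hwpc
  -- the fibre of the composite
  obtain ⟨F'', a'', h'', hT''⟩ := distinguished_cocone_triangle₁ (β ≫ c)
  have ha'' : PCmap (n - 1) a'' := (isLE_cone_iff _ hT'' (n - 1)).1 hC'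
  have O := Triangulated.someOctahedron' (u₁₂ := β) (u₂₃ := c) rfl hT hTw hT''
  have hTinv := inv_rot_of_distTriang _ O.mem
  -- chain level
  let S' : CochainComplex (ModuleCat.{u} R) ℤ :=
    (CochainComplex.singleFunctor (ModuleCat.{u} R) n).obj P
  have hS'0 : ∀ i : ℤ, i ≠ n → IsZero (S'.X i) := fun i hi =>
    HomologicalComplex.isZero_single_obj_X (ComplexShape.up ℤ) n P i hi
  have hS'ff : ∀ i : ℤ, Module.Finite R (S'.X i) ∧ Module.Free R (S'.X i) := by
    intro i
    by_cases hi : i = n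
    · subst hi
      let e := (HomologicalComplex.singleObjXSelf (ComplexShape.up ℤ) i P).toLinearEquiv
      haveI : Module.Finite R P := inferInstanceAs (Module.Finite R (Fin r → R))
      haveI : Module.Free R P := inferInstanceAs (Module.Free R (Fin r → R))
      exact ⟨Module.Finite.equiv e.symm, Module.Free.of_equiv e.symm⟩
    · haveI : Subsingleton (S'.X i) := ModuleCat.subsingleton_of_isZero (hS'0 i hi)
      exact ⟨inferInstance, inferInstance⟩
  have hbfS' : BF S' := ⟨n, n, fun i hi => hS'0 i (by omega), hS'ff⟩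
  let e₁ : Q.obj S' ≅ ((DerivedCategory.singleFunctor (ModuleCat.{u} R) (n - 1)).obj P)⟦(-1 : ℤ)⟧ :=
    ((singleFunctorIsoCompQ (ModuleCat.{u} R) n).app P).symm ≪≫
      (((singleFunctors (ModuleCat.{u} R)).shiftIso (-1) n (n - 1) (by omega)).app P).symm
  obtain ⟨u, hu⟩ := good_BF.lift hbfS' hbfF
    (e₁.hom ≫ (Triangle.mk O.m₁ O.m₃ (w ≫ δ)).invRotate.mor₁)
  have hdist := mappingCone_triangle_distinguished u
  have comm : (Q.mapTriangle.obj (CochainComplex.mappingCone.triangle u)).mor₁ ≫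
      (Iso.refl (Q.obj F)).hom = e₁.hom ≫ (Triangle.mk O.m₁ O.m₃ (w ≫ δ)).invRotate.mor₁ := by
    show Q.map u ≫ 𝟙 _ = _
    rw [comp_id]
    exact hu
  let e₃ : Q.obj (CochainComplex.mappingCone u) ≅ F'' :=
    Triangle.π₃.mapIso (isoTriangleOfIso₁₂ _ _ hdist hTinv e₁ (Iso.refl (Q.obj F)) comm)
  have hcomm₂ : Q.map (CochainComplex.mappingCone.inr u) ≫ e₃.hom = O.m₁ := by
    have h := (isoTriangleOfIso₁₂ _ _ hdist hTinv e₁ (Iso.refl (Q.obj F)) comm).hom.comm₂
    have h2 := isoTriangleOfIso₁₂_hom_hom₂ _ _ hdist hTinv e₁ (Iso.refl (Q.obj F)) comm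
    rw [h2, Iso.refl_hom] at h
    exact h.trans (id_comp _)
  -- bounds for the mapping cone
  have hF'0 : ∀ i : ℤ, i < n - 1 ∨ b < i → IsZero ((CochainComplex.mappingCone u).X i) :=
    fun i hi => cone_isZero u i (hS'0 _ (by omega)) (hF0 i (by omega))
  have hF'ff : ∀ i : ℤ, Module.Finite R ((CochainComplex.mappingCone u).X i) ∧
      Module.Free R ((CochainComplex.mappingCone u).X i) := by
    intro i
    haveI := (hS'ff (i + 1)).1
    haveI := (hS'ff (i + 1)).2
    haveI := (hF i).1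
    haveI := (hF i).2
    exact ⟨Module.Finite.equiv (coneEquiv u i).symm, Module.Free.of_equiv (coneEquiv u i).symm⟩
  haveI : (CochainComplex.mappingCone u).IsKProjective :=
    kproj_of_bdd _ b (fun i hi => hF'0 i (Or.inr hi))
      (fun i => by haveI := (hF'ff i).2; infer_instance)
  obtain ⟨a'₀, ha'₀⟩ := lift_of_kproj (E := CochainComplex.mappingCone u) (E' := K₀)
    (e₃.hom ≫ a'')
  have hQ : Q.map (CochainComplex.mappingCone.inr u ≫ a'₀) = Q.map a := by
    rw [Functor.map_comp, ha'₀, reassoc_of% hcomm₂]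
    exact O.comm₁
  obtain ⟨H⟩ := homotopy_of_Q_map_eq F _ _ hQ
  obtain ⟨a', ha', ⟨H'⟩⟩ := hep u a'₀ a H
  have hQa' : Q.map a' = e₃.hom ≫ a'' := by
    rw [← ha'₀]
    exact (congrArg DerivedCategory.Qh.map (HomotopyCategory.eq_of_homotopy _ _ H')).symm
  refine ⟨CochainComplex.mappingCone u, CochainComplex.mappingCone.inr u, a', hF'0, hF'ff, ha',
    ?_, fun i hi => isIso_inr_f u i (hS'0 _ (by omega))⟩
  rw [hQa']
  exact pcmap_comp (pcmap_of_isIso _ e₃.hom) ha''

end Groth.Agent.Helper6NC.PCm
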