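import Mathlib
import Groth.Agent.Lib.Helper6NC.PCm6

set_option autoImplicit false
set_option linter.style.haveILetI false

universe w u

open CategoryTheory Category Limits Pretriangulated DerivedCategory ZeroObject

namespace Groth.Agent.Helper6NC.PCm

open Groth.Agent.Helper6NC.PerfTri

variable {R : Type u} [Ring R] [HasDerivedCategory.{w} (ModuleCat.{u} R)]

lemma exists_isLE_of_isPC {m : ℤ} {K : DerivedCategory (ModuleCat.{u} R)} (h : IsPC m K) :
    ∃ b : ℤ, K.IsLE b := by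
  obtain ⟨E, a, b, α, hE0, hE, h1, h2⟩ := h
  refine ⟨max m b, ?_⟩
  rw [isLE_iff]
  intro i hi
  haveI : E.IsStrictlyLE b := by
    rw [CochainComplex.isStrictlyLE_iff]
    exact fun i hi => hE0 i (Or.inr hi)
  haveI := h1 i (by omega)
  exact ((Q.obj E).isZero_of_isLE b i (by omega)).of_iso
    (asIso ((homologyFunctor (ModuleCat.{u} R) i).map α)).symm

/-- a stage in the construction. -/
structure Stage (K₀ : CochainComplex (ModuleCat.{u} R) ℤ) (b : ℤ) where
  n : ℤ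
  F : CochainComplex (ModuleCat.{u} R) ℤ
  a : F ⟶ K₀
  hn : n ≤ b + 1
  zero : ∀ i : ℤ, i < n ∨ b < i → IsZero (F.X i)
  ff : ∀ i : ℤ, Module.Finite R (F.X i) ∧ Module.Free R (F.X i)
  pc : PCmap n (Q.map a)

variable {K₀ : CochainComplex (ModuleCat.{u} R) ℤ} {b : ℤ}

lemma Stage.exists_next (hK : ∀ m : ℤ, IsPC m (Q.obj K₀)) (S : Stage K₀ b) :
    ∃ (S' : Stage K₀ b) (j : S.F ⟶ S'.F), S'.n = S.n - 1 ∧ j ≫ S'.a = S.a ∧
      ∀ i : ℤ, i ≠ S.n - 1 → IsIso (j.f i) := by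
  obtain ⟨F', j, a', h0, hff, hja, hpc, hiso⟩ :=
    step K₀ S.n b S.hn (hK _) S.F S.zero S.ff S.a S.pc
  exact ⟨⟨S.n - 1, F', a', by have := S.hn; omega, h0, hff, hpc⟩, j, rfl, hja, hiso⟩

variable (hK : ∀ m : ℤ, IsPC m (Q.obj K₀)) (S₀ : Stage K₀ b)

/-- the sequence of stages. -/
noncomputable def seq : ℕ → Stage K₀ b
  | 0 => S₀
  | k + 1 => (Stage.exists_next hK (seq k)).choose

/-- the transition maps. -/
noncomputable def seqMap (k : ℕ) : (seq hK S₀ k).F ⟶ (seq hK S₀ (k + 1)).F :=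
  (Stage.exists_next hK (seq hK S₀ k)).choose_spec.choose

lemma seq_spec (k : ℕ) : (seq hK S₀ (k + 1)).n = (seq hK S₀ k).n - 1 ∧
    seqMap hK S₀ k ≫ (seq hK S₀ (k + 1)).a = (seq hK S₀ k).a ∧
      ∀ i : ℤ, i ≠ (seq hK S₀ k).n - 1 → IsIso ((seqMap hK S₀ k).f i) :=
  (Stage.exists_next hK (seq hK S₀ k)).choose_spec.choose_spec

lemma seq_n (k : ℕ) : (seq hK S₀ k).n = S₀.n - k := by
  induction k with
  | zero => simp [seq]
  | succ k ih =>
    rw [(seq_spec hK S₀ k).1, ih]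
    push_cast
    ring

/-- the sequence of complexes as a functor. -/
noncomputable def seqFunctor : ℕ ⥤ CochainComplex (ModuleCat.{u} R) ℤ :=
  Functor.ofSequence (seqMap hK S₀)

lemma seqFunctor_map_succ (k : ℕ) :
    (seqFunctor hK S₀).map (homOfLE (Nat.le_add_right k 1)) = seqMap hK S₀ k :=
  Functor.ofSequence_map_homOfLE_succ _ k

lemma isIso_map_f (i : ℤ) (k₀ : ℕ) (hk₀ : S₀.n - k₀ - 1 < i) (d : ℕ) :
    IsIso (((seqFunctor hK S₀).map (homOfLE (Nat.le_add_right k₀ d))).f i) := by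
  induction d with
  | zero =>
    have h : homOfLE (Nat.le_add_right k₀ 0) = 𝟙 k₀ := Subsingleton.elim _ _
    rw [h, CategoryTheory.Functor.map_id, HomologicalComplex.id_f]
    infer_instance
  | succ d ih =>
    have h : homOfLE (Nat.le_add_right k₀ (d + 1)) =
        homOfLE (Nat.le_add_right k₀ d) ≫ homOfLE (Nat.le_add_right (k₀ + d) 1) :=
      Subsingleton.elim _ _
    rw [h, CategoryTheory.Functor.map_comp, HomologicalComplex.comp_f, seqFunctor_map_succ]
    have h' : IsIso ((seqMap hK S₀ (k₀ + d)).f i) :=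
      (seq_spec hK S₀ (k₀ + d)).2.2 i (by rw [seq_n]; push_cast; omega)
    exact IsIso.comp_isIso' ih h'

lemma evConst (i : ℤ) (k₀ : ℕ) (hk₀ : S₀.n - k₀ - 1 < i) :
    (seqFunctor hK S₀ ⋙ HomologicalComplex.eval (ModuleCat.{u} R) (ComplexShape.up ℤ)
      i).IsEventuallyConstantFrom k₀ := by
  intro j f
  obtain ⟨d, rfl⟩ := Nat.exists_eq_add_of_le (leOfHom f)
  have h : f = homOfLE (Nat.le_add_right k₀ d) := Subsingleton.elim _ _
  rw [h]
  exact isIso_map_f hK S₀ i k₀ hk₀ d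

lemma isIso_colimit_ι_f (i : ℤ) (k : ℕ) (hk : S₀.n - k - 1 < i) :
    IsIso ((colimit.ι (seqFunctor hK S₀) k).f i) := by
  have hc := isColimitOfPreserves
    (HomologicalComplex.eval (ModuleCat.{u} R) (ComplexShape.up ℤ) i)
    (colimit.isColimit (seqFunctor hK S₀))
  exact (evConst hK S₀ i k hk).isIso_ι_of_isColimit hc

/-- the cocone over `K₀`. -/
noncomputable def seqCocone : Cocone (seqFunctor hK S₀) where
  pt := K₀
  ι := NatTrans.ofSequence (F := seqFunctor hK S₀) (G := (Functor.const ℕ).obj K₀)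
    (fun k => (seq hK S₀ k).a) (fun k => by
      rw [seqFunctor_map_succ]
      simp only [Functor.const_obj_obj, Functor.const_obj_map]
      exact (seq_spec hK S₀ k).2.1)

lemma colimit_ι_desc (k : ℕ) :
    colimit.ι (seqFunctor hK S₀) k ≫ colimit.desc (seqFunctor hK S₀) (seqCocone hK S₀) =
      (seq hK S₀ k).a :=
  colimit.ι_desc _ _

lemma isIso_Q_map_desc :
    IsIso (Q.map (colimit.desc (seqFunctor hK S₀) (seqCocone hK S₀))) := by
  rw [DerivedCategory.isIso_iff]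
  intro i
  have h0 := Int.self_le_toNat (S₀.n - i + 3)
  have hk : ∀ i' : ℤ, i - 1 ≤ i' → S₀.n - ((S₀.n - i + 3).toNat : ℤ) - 1 < i' := by
    intro i' hi'
    omega
  let ιk : (seq hK S₀ (S₀.n - i + 3).toNat).F ⟶ colimit (seqFunctor hK S₀) :=
    colimit.ι (seqFunctor hK S₀) (S₀.n - i + 3).toNat
  let d : colimit (seqFunctor hK S₀) ⟶ K₀ :=
    colimit.desc (seqFunctor hK S₀) (seqCocone hK S₀)
  have hιd : ιk ≫ d = (seq hK S₀ (S₀.n - i + 3).toNat).a := colimit_ι_desc hK S₀ _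
  have h1 : IsIso (ιk.f (i - 1)) := isIso_colimit_ι_f hK S₀ (i - 1) _ (hk _ le_rfl)
  have h2 : IsIso (ιk.f i) := isIso_colimit_ι_f hK S₀ i _ (hk _ (by omega))
  have h3 : IsIso (ιk.f (i + 1)) := isIso_colimit_ι_f hK S₀ (i + 1) _ (hk _ (by omega))
  have h4 : IsIso (HomologicalComplex.homologyMap ιk i) :=
    isIso_homologyMap_of_isIso _ i h1 h2 h3
  haveI h5 : IsIso ((homologyFunctor (ModuleCat.{u} R) i).map (Q.map ιk)) :=
    (NatIso.isIso_map_iff (homologyFunctorFactors (ModuleCat.{u} R) i) _).2 h4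
  haveI h6 : IsIso ((homologyFunctor (ModuleCat.{u} R) i).map
      (Q.map (seq hK S₀ (S₀.n - i + 3).toNat).a)) :=
    (seq hK S₀ (S₀.n - i + 3).toNat).pc.1 i (by rw [seq_n]; omega)
  have h7 : (homologyFunctor (ModuleCat.{u} R) i).map (Q.map ιk) ≫
      (homologyFunctor (ModuleCat.{u} R) i).map (Q.map d) =
      (homologyFunctor (ModuleCat.{u} R) i).map
        (Q.map (seq hK S₀ (S₀.n - i + 3).toNat).a) := by
    rw [← CategoryTheory.Functor.map_comp, ← CategoryTheory.Functor.map_comp, hιd]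
  exact @IsIso.of_isIso_fac_left _ _ _ _ _ _ _ _ h5 h6 h7

/-- an object which is `m`-pseudo-coherent for all `m` is represented by a bounded above
complex of finite free modules. -/
theorem exists_rep_of_forall_isPC (K : DerivedCategory (ModuleCat.{u} R))
    (hK : ∀ m : ℤ, IsPC m K) :
    ∃ (E : CochainComplex (ModuleCat.{u} R) ℤ) (b : ℤ), (∀ i : ℤ, b < i → IsZero (E.X i)) ∧
      (∀ i : ℤ, Module.Finite R (E.X i) ∧ Module.Free R (E.X i)) ∧ Nonempty (Q.obj E ≅ K) := by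
  let K₀ := Q.objPreimage K
  let e₀ : Q.obj K₀ ≅ K := Q.objObjPreimageIso K
  have hK₀ : ∀ m : ℤ, IsPC m (Q.obj K₀) := fun m => isPC_of_iso e₀.symm (hK m)
  obtain ⟨b, hb⟩ := exists_isLE_of_isPC (hK₀ 0)
  have hz : ∀ i : ℤ, IsZero ((0 : CochainComplex (ModuleCat.{u} R) ℤ).X i) := fun i =>
    Functor.map_isZero (HomologicalComplex.eval _ (ComplexShape.up ℤ) i) (isZero_zero _)
  let S₀ : Stage K₀ b :=
    { n := b + 1
      F := 0
      a := 0
      hn := le_rfl
      zero := fun i _ => hz i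
      ff := fun i => by
        haveI : Subsingleton ((0 : CochainComplex (ModuleCat.{u} R) ℤ).X i) :=
          ModuleCat.subsingleton_of_isZero (hz i)
        exact ⟨inferInstance, inferInstance⟩
      pc := pcmap_of_isZero (b + 1) _ (Functor.map_isZero Q (isZero_zero _))
        (fun i hi => (Q.obj K₀).isZero_of_isLE b i (by omega)) }
  refine ⟨colimit (seqFunctor hK₀ S₀), b, fun i hi => ?_, fun i => ?_, ?_⟩
  · haveI := isIso_colimit_ι_f hK₀ S₀ i 0 (by simp only [S₀]; push_cast; omega)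
    exact (hz i).of_iso (asIso ((colimit.ι (seqFunctor hK₀ S₀) 0).f i)).symm
  · have h0 := Int.self_le_toNat (b - i + 1)
    haveI := isIso_colimit_ι_f hK₀ S₀ i (b - i + 1).toNat (by simp only [S₀]; omega)
    let e : ((seq hK₀ S₀ (b - i + 1).toNat).F.X i) ≃ₗ[R]
        ((colimit (seqFunctor hK₀ S₀)).X i) :=
      (asIso ((colimit.ι (seqFunctor hK₀ S₀) (b - i + 1).toNat).f i)).toLinearEquiv
    haveI := ((seq hK₀ S₀ (b - i + 1).toNat).ff i).1
    haveI := ((seq hK₀ S₀ (b - i + 1).toNat).ff i).2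
    exact ⟨Module.Finite.equiv e, Module.Free.of_equiv e⟩
  · haveI := isIso_Q_map_desc hK₀ S₀
    exact ⟨asIso (Q.map (colimit.desc (seqFunctor hK₀ S₀) (seqCocone hK₀ S₀))) ≪≫ e₀⟩

end Groth.Agent.Helper6NC.PCm
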