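import Mathlib
import Groth.Agent.Lib.Helper6NC.PCm8

/-!
# `m`-pseudo-coherence, part 9: graded dévissage of bounded complexes, termwise criterion,
and the Noetherian criterion.
-/

set_option autoImplicit false
set_option linter.style.haveILetI false

universe w v u

open CategoryTheory Category Limits Pretriangulated DerivedCategory ZeroObject

namespace Groth.Agent.Helper6NC.PCm

section Graded

variable {C : Type u} [Category.{v} C] [Abelian C] [HasDerivedCategory.{w} C]

/-- graded dévissage of bounded complexes by brutal truncation. -/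
theorem prop_of_bounded_complex_graded (P : ℤ → DerivedCategory C → Prop)
    (hzero : ∀ (m : ℤ) (K : DerivedCategory C), IsZero K → P m K)
    (hiso : ∀ (m : ℤ) {K L : DerivedCategory C}, (K ≅ L) → P m K → P m L)
    (hshift : ∀ (m m' : ℤ) (K : DerivedCategory C) (n : ℤ), m' = m - n → P m K → P m' (K⟦n⟧))
    (hext : ∀ (m : ℤ) (T : Triangle (DerivedCategory C)), T ∈ distTriang _ → P m T.obj₁ →
      P m T.obj₃ → P m T.obj₂)
    (m : ℤ) (n : ℕ) : ∀ (K : CochainComplex C ℤ) (a b : ℤ),
      (∀ i : ℤ, i < a ∨ b < i → IsZero (K.X i)) → b < a + n →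
      (∀ i : ℤ, P (m - i) ((singleFunctor C 0).obj (K.X i))) → P m (Q.obj K) := by
  have hzero' : ∀ (K : CochainComplex C ℤ), (∀ i : ℤ, IsZero (K.X i)) → P m (Q.obj K) := by
    intro K hK
    have hz : IsZero K := by
      rw [IsZero.iff_id_eq_zero]
      ext i
      exact (hK i).eq_of_src _ _
    exact hzero m _ (Functor.map_isZero _ hz)
  induction n with
  | zero =>
    intro K a b hK0 hab hK
    exact hzero' K (fun i => hK0 i (by omega))
  | succ n ih =>
    intro K a b hK0 hab hK
    by_cases hlt : b < a
    · exact hzero' K (fun i => hK0 i (by omega))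
    · have hKa : ∀ i, (ComplexShape.up ℤ).Rel i a → K.d i a ≫ 𝟙 (K.X a) = 0 := by
        intro i hi
        have hi' : i + 1 = a := hi
        exact (hK0 i (Or.inl (by omega))).eq_of_src _ _
      obtain ⟨π, hπa⟩ : ∃ π : K ⟶ (HomologicalComplex.single C (ComplexShape.up ℤ) a).obj (K.X a),
          π.f a = 𝟙 (K.X a) ≫
            (HomologicalComplex.singleObjXSelf (ComplexShape.up ℤ) a (K.X a)).inv :=
        ⟨HomologicalComplex.mkHomToSingle (𝟙 (K.X a)) hKa,
          HomologicalComplex.mkHomToSingle_f _ _⟩
      haveI hπepi : Epi π := by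
        apply HomologicalComplex.epi_of_epi_f
        intro i
        by_cases hi : i = a
        · subst hi
          rw [hπa]
          infer_instance
        · exact ⟨fun _ _ _ =>
            (HomologicalComplex.isZero_single_obj_X (ComplexShape.up ℤ) a (K.X a) i hi).eq_of_src
              _ _⟩
      have hS : (ShortComplex.mk (kernel.ι π) π (kernel.condition π)).ShortExact :=
        { exact := ShortComplex.exact_of_f_is_kernel _ (kernelIsKernel π)
          mono_f := inferInstanceAs (Mono (kernel.ι π))
          epi_g := hπepi }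
      have hT := triangleOfSES_distinguished hS
      have hSi : ∀ i : ℤ, ((ShortComplex.mk (kernel.ι π) π (kernel.condition π)).map
          (HomologicalComplex.eval C (ComplexShape.up ℤ) i)).ShortExact :=
        fun i => hS.map_of_exact _
      have hmono : ∀ i : ℤ, Mono ((kernel.ι π).f i) := fun i => (hSi i).mono_f
      have hK'iso : ∀ i : ℤ, i ≠ a → IsIso ((kernel.ι π).f i) := by
        intro i hi
        haveI := hmono i
        haveI : Epi ((kernel.ι π).f i) := (hSi i).exact.epi_f
          ((HomologicalComplex.isZero_single_obj_X (ComplexShape.up ℤ) a (K.X a) i hi).eq_of_tgt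
            _ _)
        exact isIso_of_mono_of_epi _
      have hK'zero : IsZero ((kernel π).X a) := by
        haveI := hmono a
        apply IsZero.of_mono_eq_zero ((kernel.ι π).f a)
        haveI : Mono (π.f a) := by
          rw [hπa]
          infer_instance
        rw [← cancel_mono (π.f a), zero_comp, ← HomologicalComplex.comp_f, kernel.condition,
          HomologicalComplex.zero_f]
      have r1 : P m (Q.obj (kernel π)) := by
        refine ih (kernel π) (a + 1) b (fun i hi => ?_) (by omega) (fun i => ?_)
        · by_cases hia : i = a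
          · subst hia
            exact hK'zero
          · haveI := hmono i
            exact IsZero.of_mono ((kernel.ι π).f i) (hK0 i (by omega))
        · by_cases hia : i = a
          · subst hia
            exact hzero _ _ (Functor.map_isZero _ hK'zero)
          · haveI := hK'iso i hia
            exact hiso _ ((singleFunctor C 0).mapIso (asIso ((kernel.ι π).f i)).symm) (hK i)
      have r3 : P m (Q.obj ((HomologicalComplex.single C (ComplexShape.up ℤ) a).obj (K.X a))) :=
        hiso m (((singleFunctors C).shiftIso (-a) a 0 (by omega)).app (K.X a) ≪≫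
          (singleFunctorIsoCompQ C a).app (K.X a)) (hshift (m - a) m _ (-a) (by ring) (hK a))
      exact hext m _ hT r1 r3

end Graded

open Groth.Agent.Helper6NC.PerfTri

variable {R : Type u} [Ring R] [HasDerivedCategory.{w} (ModuleCat.{u} R)]

/-- a bounded above complex whose terms `K^i` are `(m - i)`-pseudo-coherent is
`m`-pseudo-coherent. -/
theorem isPC_of_terms (m : ℤ) (K : CochainComplex (ModuleCat.{u} R) ℤ) (b : ℤ)
    (hb : ∀ i : ℤ, b < i → IsZero (K.X i))
    (hK : ∀ i : ℤ, IsPC (m - i)
      ((singleFunctor (ModuleCat.{u} R) 0).obj (ModuleCat.of R (K.X i)))) :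
    IsPC m (Q.obj K) := by
  have h0 := Int.self_le_toNat (b - m + 1)
  have h1 : IsPC m (Q.obj (trunc K m)) := by
    refine prop_of_bounded_complex_graded (fun m X => IsPC m X)
      (fun m X hX => isPC_of_isZero m X hX)
      (fun m {_ _} e h => isPC_of_iso e h)
      (fun m m' X n hm h => isPC_shift' n h hm)
      (fun m T hT h₁ h₃ => (two_of_three T hT m).2.1 h₁ h₃)
      m (b - m + 1).toNat (trunc K m) m b
      (fun i hi => hi.elim (trunc_isZero K m i) (fun h => trunc_isZero' K m i (hb i h)))
      (by omega) ?_
    intro i
    by_cases h : m ≤ i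
    · exact isPC_of_iso ((singleFunctor (ModuleCat.{u} R) 0).mapIso
        (truncEquiv K m i h).toModuleIso.symm) (hK i)
    · exact isPC_of_isZero _ _ (Functor.map_isZero _ (trunc_isZero K m i (by omega)))
  exact isPC_comp h1 (Q.map (truncι K m)) (truncι_pcmap K m)

section Noetherian

variable [IsNoetherianRing R]

omit [HasDerivedCategory.{w} (ModuleCat.{u} R)] in
theorem homology_finite_of_isNoetherianRing (E : CochainComplex (ModuleCat.{u} R) ℤ) (i : ℤ)
    [Module.Finite R (E.X i)] : Module.Finite R (E.homology i) := by
  haveI : IsNoetherian R (E.X i) := isNoetherian_of_isNoetherianRing_of_finite R (E.X i)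
  haveI : Module.Finite R (E.cycles i) :=
    Module.Finite.of_injective (E.iCycles i).hom
      ((ModuleCat.mono_iff_injective _).1 inferInstance)
  exact Module.Finite.of_surjective (E.homologyπ i).hom
    ((ModuleCat.epi_iff_surjective _).1 inferInstance)

lemma isPC_single_of_finite_noeth_aux (d : ℕ) : ∀ (k : ℤ), 1 ≤ k + d →
    ∀ (M : ModuleCat.{u} R) [Module.Finite R M],
      IsPC k ((singleFunctor (ModuleCat.{u} R) 0).obj M) := by
  induction d with
  | zero =>
    intro k hk M _
    haveI : ((singleFunctor (ModuleCat.{u} R) 0).obj M).IsLE (k - 1) :=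
      TStructure.t.isLE_of_le _ 0 (k - 1) (by omega)
    exact isPC_of_isLE k _
  | succ d ih =>
    intro k hk M _
    obtain ⟨n, f, hf⟩ := Module.Finite.exists_fin' (R := R) (M := M)
    haveI : Module.Finite R (ModuleCat.of R (LinearMap.ker f)) :=
      Module.Finite.iff_fg.2 (IsNoetherian.noetherian (LinearMap.ker f))
    let S : ShortComplex (ModuleCat.{u} R) :=
      ShortComplex.mk (ModuleCat.ofHom (LinearMap.ker f).subtype)
        (ModuleCat.ofHom f : ModuleCat.of R (Fin n → R) ⟶ M) (by
          ext x
          exact x.2)
    have hS : S.ShortExact :=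
      { exact := (ShortComplex.ShortExact.moduleCat_exact_iff_function_exact S).2
          (LinearMap.exact_subtype_ker_map f)
        mono_f := (ModuleCat.mono_iff_injective _).2 (Submodule.injective_subtype _)
        epi_g := (ModuleCat.epi_iff_surjective _).2 hf }
    have hT := hS.singleTriangle_distinguished
    have h1 : IsPC (k + 1) hS.singleTriangle.obj₁ :=
      ih (k + 1) (by omega) (ModuleCat.of R (LinearMap.ker f))
    have h2 : IsPC k hS.singleTriangle.obj₂ :=
      isPC_of_rep k (rep_single_free (ModuleCat.of R (Fin n → R)))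
    exact isPC_cone _ hT k h1 h2

/-- over a Noetherian ring a finite module is `k`-pseudo-coherent for all `k`. -/
lemma isPC_single_of_finite_noeth (M : ModuleCat.{u} R) [Module.Finite R M] (k : ℤ) :
    IsPC k ((singleFunctor (ModuleCat.{u} R) 0).obj M) := by
  have h0 := Int.self_le_toNat (1 - k)
  exact isPC_single_of_finite_noeth_aux (1 - k).toNat k (by omega) M

/-- the Noetherian criterion for `m`-pseudo-coherence. -/
theorem isPC_iff_of_isNoetherianRing (m : ℤ) (K : DerivedCategory (ModuleCat.{u} R)) :
    IsPC m K ↔
      (∃ b : ℤ, ∀ i : ℤ, b < i →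
        Subsingleton ((homologyFunctor (ModuleCat.{u} R) i).obj K)) ∧
      ∀ i : ℤ, m ≤ i → Module.Finite R ((homologyFunctor (ModuleCat.{u} R) i).obj K) := by
  constructor
  · intro h
    obtain ⟨b, hb⟩ := exists_isLE_of_isPC h
    refine ⟨⟨b, fun i hi => ModuleCat.subsingleton_of_isZero (K.isZero_of_isLE b i hi)⟩,
      fun i hi => ?_⟩
    obtain ⟨E, a, b', α, hE0, hE, h1, h2⟩ := h
    haveI := (hE i).1
    haveI : Module.Finite R ((HomologicalComplex.homologyFunctor (ModuleCat.{u} R)
        (ComplexShape.up ℤ) i).obj E) := homology_finite_of_isNoetherianRing E i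
    haveI : Epi ((homologyFunctor (ModuleCat.{u} R) i).map α) := by
      rcases hi.lt_or_eq with hlt | heq
      · haveI := h1 i hlt
        infer_instance
      · subst heq
        exact h2
    haveI : Epi (((homologyFunctorFactors (ModuleCat.{u} R) i).app E).inv ≫
        (homologyFunctor (ModuleCat.{u} R) i).map α) := epi_comp _ _
    exact Module.Finite.of_surjective
      (((homologyFunctorFactors (ModuleCat.{u} R) i).app E).inv ≫
        (homologyFunctor (ModuleCat.{u} R) i).map α).hom
      ((ModuleCat.epi_iff_surjective _).1 inferInstance)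
  · rintro ⟨⟨b, hb⟩, hfin⟩
    have hle : K.IsLE b := by
      rw [isLE_iff]
      intro i hi
      haveI := hb i hi
      exact ModuleCat.isZero_of_subsingleton _
    refine isPC_of_homology m K b hle (fun i => ?_)
    by_cases hi : m ≤ i
    · haveI := hfin i hi
      exact isPC_single_of_finite_noeth _ (m - i)
    · haveI : ((singleFunctor (ModuleCat.{u} R) 0).obj
          ((homologyFunctor (ModuleCat.{u} R) i).obj K)).IsLE (m - i - 1) :=
        TStructure.t.isLE_of_le _ 0 (m - i - 1) (by omega)
      exact isPC_of_isLE (m - i) _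

end Noetherian

end Groth.Agent.Helper6NC.PCm
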