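import Mathlib
import Groth.Agent.Lib.Helper6NC.PCm9

/-!
# `m`-pseudo-coherence, part 10: restriction of scalars along a ring map `A → B` such that
`B` is a pseudo-coherent `A`-module.
-/

set_option autoImplicit false
set_option linter.style.haveILetI false

universe u

open CategoryTheory Category Limits Pretriangulated DerivedCategory ZeroObject

attribute [local instance] HasDerivedCategory.standard

namespace Groth.Agent.Helper6NC.PCm

open Groth.Agent.Helper6NC.PerfTri

variable {A B : Type u} [Ring A] [Ring B] (φ : A →+* B)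
  [PreservesFiniteLimits (ModuleCat.restrictScalars.{u} φ)]
  [PreservesFiniteColimits (ModuleCat.restrictScalars.{u} φ)]

/-- restriction of scalars on derived categories. -/
noncomputable abbrev resD :
    DerivedCategory (ModuleCat.{u} B) ⥤ DerivedCategory (ModuleCat.{u} A) :=
  (ModuleCat.restrictScalars.{u} φ).mapDerivedCategory

lemma homology_resD (L : DerivedCategory (ModuleCat.{u} B)) (i : ℤ) :
    Nonempty ((homologyFunctor (ModuleCat.{u} A) i).obj ((resD φ).obj L) ≅
      (ModuleCat.restrictScalars.{u} φ).obj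
        ((homologyFunctor (ModuleCat.{u} B) i).obj L)) := by
  let F := ModuleCat.restrictScalars.{u} φ
  let K := Q.objPreimage L
  let e : Q.obj K ≅ L := Q.objObjPreimageIso L
  let e1 : (homologyFunctor (ModuleCat.{u} A) i).obj ((resD φ).obj L) ≅
      (homologyFunctor (ModuleCat.{u} A) i).obj ((resD φ).obj (Q.obj K)) :=
    (homologyFunctor (ModuleCat.{u} A) i).mapIso ((resD φ).mapIso e.symm)
  let e2 : (homologyFunctor (ModuleCat.{u} A) i).obj ((resD φ).obj (Q.obj K)) ≅
      (homologyFunctor (ModuleCat.{u} A) i).obj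
        (Q.obj ((F.mapHomologicalComplex (ComplexShape.up ℤ)).obj K)) :=
    (homologyFunctor (ModuleCat.{u} A) i).mapIso (F.mapDerivedCategoryFactors.app K)
  let e3 : (homologyFunctor (ModuleCat.{u} A) i).obj
        (Q.obj ((F.mapHomologicalComplex (ComplexShape.up ℤ)).obj K)) ≅
      ((F.mapHomologicalComplex (ComplexShape.up ℤ)).obj K).homology i :=
    (homologyFunctorFactors (ModuleCat.{u} A) i).app _
  let e4 : ((F.mapHomologicalComplex (ComplexShape.up ℤ)).obj K).homology i ≅
      F.obj (K.homology i) := (K.sc i).mapHomologyIso F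
  let e5 : F.obj (K.homology i) ≅ F.obj ((homologyFunctor (ModuleCat.{u} B) i).obj L) :=
    F.mapIso (((homologyFunctorFactors (ModuleCat.{u} B) i).app K).symm ≪≫
      (homologyFunctor (ModuleCat.{u} B) i).mapIso e)
  exact ⟨e1 ≪≫ e2 ≪≫ e3 ≪≫ e4 ≪≫ e5⟩

lemma isZero_restrict_iff (M : ModuleCat.{u} B) :
    IsZero ((ModuleCat.restrictScalars.{u} φ).obj M) ↔ IsZero M := by
  constructor
  · intro h
    have h1 : Subsingleton ((ModuleCat.restrictScalars.{u} φ).obj M) :=
      ModuleCat.subsingleton_of_isZero h
    haveI : Subsingleton M := h1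
    exact ModuleCat.isZero_of_subsingleton M
  · intro h
    have h1 : Subsingleton M := ModuleCat.subsingleton_of_isZero h
    haveI : Subsingleton ((ModuleCat.restrictScalars.{u} φ).obj M) := h1
    exact ModuleCat.isZero_of_subsingleton _

lemma isLE_resD_iff (K : DerivedCategory (ModuleCat.{u} B)) (n : ℤ) :
    ((resD φ).obj K).IsLE n ↔ K.IsLE n := by
  rw [isLE_iff, isLE_iff]
  refine forall_congr' fun i => imp_congr_right fun _ => ?_
  obtain ⟨e⟩ := homology_resD φ K i
  exact ⟨fun h => (isZero_restrict_iff φ _).1 (h.of_iso e.symm),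
    fun h => ((isZero_restrict_iff φ _).2 h).of_iso e⟩

lemma pcmap_resD_iff {X K : DerivedCategory (ModuleCat.{u} B)} (α : X ⟶ K) (m : ℤ) :
    PCmap m ((resD φ).map α) ↔ PCmap m α := by
  obtain ⟨C₁, β, δ, hT⟩ := distinguished_cocone_triangle α
  have hT' := (resD φ).map_distinguished _ hT
  have h1 := isLE_cone_iff _ hT m
  have h2 := isLE_cone_iff _ hT' m
  exact h2.symm.trans ((isLE_resD_iff φ C₁ (m - 1)).trans h1)

lemma finite_of_restrict (M : ModuleCat.{u} B)
    (h : Module.Finite A ((ModuleCat.restrictScalars.{u} φ).obj M)) : Module.Finite B M := by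
  obtain ⟨s, hs⟩ := h.fg_top
  let t : Finset M := s
  refine ⟨⟨t, ?_⟩⟩
  rw [eq_top_iff]
  intro x _
  let N : Submodule A ((ModuleCat.restrictScalars.{u} φ).obj M) :=
    { carrier := (Submodule.span B (t : Set M) : Set M)
      add_mem' := fun {x y} (hx : x ∈ Submodule.span B (t : Set M))
        (hy : y ∈ Submodule.span B (t : Set M)) =>
          (Submodule.add_mem _ hx hy : (x : M) + y ∈ Submodule.span B (t : Set M))
      zero_mem' := (Submodule.zero_mem _ : (0 : M) ∈ Submodule.span B (t : Set M))
      smul_mem' := fun a y (hy : y ∈ Submodule.span B (t : Set M)) =>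
        (Submodule.smul_mem _ (φ a) hy : φ a • (y : M) ∈ Submodule.span B (t : Set M)) }
  have hN : Submodule.span A (s : Set ((ModuleCat.restrictScalars.{u} φ).obj M)) ≤ N :=
    Submodule.span_le.2 (fun y (hy : y ∈ (t : Set M)) =>
      (Submodule.subset_span hy : (y : M) ∈ Submodule.span B (t : Set M)))
  have hx : (x : (ModuleCat.restrictScalars.{u} φ).obj M) ∈
      Submodule.span A (s : Set ((ModuleCat.restrictScalars.{u} φ).obj M)) := by
    rw [hs]
    exact trivial
  exact hN hx

section Forward

/-- the hypothesis that `B` is pseudo-coherent as an `A`-module. -/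
def ResPC : Prop := ∀ k : ℤ, IsPC k ((singleFunctor (ModuleCat.{u} A) 0).obj
  ((ModuleCat.restrictScalars.{u} φ).obj (ModuleCat.of B B)))

/-- the restriction of `M` is pseudo-coherent. -/
def ResPCMod (M : Type u) [AddCommGroup M] [Module B M] : Prop :=
  ∀ k : ℤ, IsPC k ((singleFunctor (ModuleCat.{u} A) 0).obj
    ((ModuleCat.restrictScalars.{u} φ).obj (ModuleCat.of B M)))

lemma resPCMod_prod (M N : Type u) [AddCommGroup M] [Module B M] [AddCommGroup N] [Module B N]
    (hM : ResPCMod φ M) (hN : ResPCMod φ N) : ResPCMod φ (M × N) := by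
  intro k
  let S : ShortComplex (ModuleCat.{u} B) :=
    ShortComplex.mk (ModuleCat.ofHom (LinearMap.inl B M N))
      (ModuleCat.ofHom (LinearMap.snd B M N)) (by
        ext x
        rfl)
  have hS : S.ShortExact :=
    { exact := (ShortComplex.ShortExact.moduleCat_exact_iff_function_exact S).2
        Function.Exact.inl_snd
      mono_f := (ModuleCat.mono_iff_injective _).2 LinearMap.inl_injective
      epi_g := (ModuleCat.epi_iff_surjective _).2 LinearMap.snd_surjective }
  have hS' : (S.map (ModuleCat.restrictScalars.{u} φ)).ShortExact := hS.map_of_exact _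
  have hT := hS'.singleTriangle_distinguished
  exact (two_of_three _ hT k).2.1 (hM k) (hN k)

lemma resPCMod_of_subsingleton (M : Type u) [AddCommGroup M] [Module B M] [Subsingleton M] :
    ResPCMod φ M := by
  intro k
  exact isPC_of_isZero _ _ (Functor.map_isZero _ (Functor.map_isZero _
    (ModuleCat.isZero_of_subsingleton _)))

lemma resPCMod_of_equiv {M N : Type u} [AddCommGroup M] [Module B M] [AddCommGroup N]
    [Module B N] (e : M ≃ₗ[B] N) (hM : ResPCMod φ M) : ResPCMod φ N := by
  intro k
  exact isPC_of_iso ((singleFunctor (ModuleCat.{u} A) 0).mapIso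
    ((ModuleCat.restrictScalars.{u} φ).mapIso e.toModuleIso)) (hM k)

lemma resPCMod_pi (HB : ResPC φ) (n : ℕ) : ResPCMod φ (Fin n → B) := by
  induction n with
  | zero => exact resPCMod_of_subsingleton φ _
  | succ n ih =>
    exact resPCMod_of_equiv φ (Fin.consLinearEquiv B (fun _ : Fin (n + 1) => B))
      (resPCMod_prod φ B (Fin n → B) HB ih)

lemma resPCMod_free (HB : ResPC φ) (M : Type u) [AddCommGroup M] [Module B M]
    [Module.Finite B M] [Module.Free B M] : ResPCMod φ M := by
  exact resPCMod_of_equiv φ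
    ((Module.Free.chooseBasis B M).reindex (Fintype.equivFin _)).equivFun.symm
    (resPCMod_pi φ HB _)

lemma isPC_resD_Q (HB : ResPC φ) (E : CochainComplex (ModuleCat.{u} B) ℤ) (a b : ℤ)
    (h0 : ∀ i : ℤ, i < a ∨ b < i → IsZero (E.X i))
    (hE : ∀ i : ℤ, Module.Finite B (E.X i) ∧ Module.Free B (E.X i)) (k : ℤ) :
    IsPC k ((resD φ).obj (Q.obj E)) := by
  refine isPC_of_iso ((ModuleCat.restrictScalars.{u} φ).mapDerivedCategoryFactors.app E).symm ?_
  refine BddCx.prop_of_bounded_complex' (fun X => ∀ k : ℤ, IsPC k X)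
    (fun e h k => isPC_of_iso e (h k))
    (fun X n h k => isPC_shift' n (h (k + n)) (by ring))
    (fun T hT h₁ h₃ k => (two_of_three T hT k).2.1 (h₁ k) (h₃ k))
    (((ModuleCat.restrictScalars.{u} φ).mapHomologicalComplex (ComplexShape.up ℤ)).obj E) a b
    (fun i hi => Functor.map_isZero (ModuleCat.restrictScalars.{u} φ) (h0 i hi))
    (fun i k' => ?_) k
  haveI := (hE i).1
  haveI := (hE i).2
  exact resPCMod_free φ HB (E.X i) k'

lemma isPC_resD (HB : ResPC φ) {m : ℤ} {K : DerivedCategory (ModuleCat.{u} B)}
    (h : IsPC m K) : IsPC m ((resD φ).obj K) := by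
  obtain ⟨E, a, b, α, hE0, hE, h1, h2⟩ := h
  exact isPC_comp (isPC_resD_Q φ HB E a b hE0 hE m) ((resD φ).map α)
    ((pcmap_resD_iff φ α m).2 ⟨h1, h2⟩)

end Forward

lemma isPC_of_resD_aux (HB : ResPC φ) (d : ℕ) :
    ∀ (m b : ℤ) (K : DerivedCategory (ModuleCat.{u} B)), K.IsLE b → b < m + d →
      IsPC m ((resD φ).obj K) → IsPC m K := by
  induction d with
  | zero =>
    intro m b K hb hd _
    haveI : K.IsLE (m - 1) := TStructure.t.isLE_of_le K b (m - 1) (by omega)
    exact isPC_of_isLE m K
  | succ d ih =>
    intro m b K hb hd h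
    by_cases hlt : b < m
    · haveI : K.IsLE (m - 1) := TStructure.t.isLE_of_le K b (m - 1) (by omega)
      exact isPC_of_isLE m K
    · haveI hρle : ((resD φ).obj K).IsLE b := (isLE_resD_iff φ K b).2 hb
      haveI hfinA : Module.Finite A
          ((homologyFunctor (ModuleCat.{u} A) b).obj ((resD φ).obj K)) :=
        finite_of_isPC (isPC_mono (by omega) h)
          (fun i hi => ((resD φ).obj K).isZero_of_isLE b i hi)
      obtain ⟨e⟩ := homology_resD φ K b
      have hfinA' : Module.Finite A ((ModuleCat.restrictScalars.{u} φ).obj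
          ((homologyFunctor (ModuleCat.{u} B) b).obj K)) :=
        Module.Finite.equiv e.toLinearEquiv
      haveI hfinB : Module.Finite B ((homologyFunctor (ModuleCat.{u} B) b).obj K) :=
        finite_of_restrict φ _ hfinA'
      obtain ⟨r, g, hg⟩ := Module.Finite.exists_fin' (R := B)
        (M := (homologyFunctor (ModuleCat.{u} B) b).obj K)
      let P : ModuleCat.{u} B := ModuleCat.of B (Fin r → B)
      haveI : Epi (ModuleCat.ofHom g : P ⟶ (homologyFunctor (ModuleCat.{u} B) b).obj K) :=
        (ModuleCat.epi_iff_surjective _).2 hg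
      haveI : Module.Projective B P := inferInstanceAs (Module.Projective B (Fin r → B))
      haveI : Projective P := ModuleCat.projective_of_categoryTheory_projective _
      haveI : Module.Finite B P := inferInstanceAs (Module.Finite B (Fin r → B))
      haveI : Module.Free B P := inferInstanceAs (Module.Free B (Fin r → B))
      obtain ⟨w, hw⟩ := exists_hom_from_single_epi P b K (ModuleCat.ofHom g)
      obtain ⟨L, c, dw, hTw⟩ := distinguished_cocone_triangle w
      have hwpc : PCmap b w := by
        refine ⟨fun i hi => ?_, hw⟩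
        have h1 : IsZero ((homologyFunctor (ModuleCat.{u} B) i).obj
            ((DerivedCategory.singleFunctor (ModuleCat.{u} B) b).obj P)) :=
          ((DerivedCategory.singleFunctor (ModuleCat.{u} B) b).obj P).isZero_of_isLE b i hi
        exact ⟨0, h1.eq_of_src _ _, (K.isZero_of_isLE b i hi).eq_of_src _ _⟩
      have hL : L.IsLE (b - 1) := (isLE_cone_iff _ hTw b).2 hwpc
      have hP : ∀ k : ℤ, IsPC k ((DerivedCategory.singleFunctor (ModuleCat.{u} B) b).obj P) :=
        fun k => isPC_of_iso (((singleFunctors (ModuleCat.{u} B)).shiftIso (-b) b 0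
          (by omega)).app P)
          (isPC_shift' (-b) (isPC_of_rep (k - b) (rep_single_free P)) (by ring))
      have hρP : ∀ k : ℤ, IsPC k ((resD φ).obj
          ((DerivedCategory.singleFunctor (ModuleCat.{u} B) b).obj P)) :=
        fun k => isPC_resD φ HB (hP k)
      have hTρ := (resD φ).map_distinguished _ hTw
      have hρL : IsPC m ((resD φ).obj L) := isPC_cone _ hTρ m (hρP (m + 1)) h
      have hLpc : IsPC m L := ih m (b - 1) L hL (by omega) hρL
      exact (two_of_three _ hTw m).2.1 (hP m) hLpc

/-- if `B` is a pseudo-coherent `A`-module, then an object of `D(B)` is `m`-pseudo-coherent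
iff its restriction to `A` is. -/
theorem isPC_resD_iff (HB : ResPC φ) (K : DerivedCategory (ModuleCat.{u} B)) (m : ℤ) :
    IsPC m ((resD φ).obj K) ↔ IsPC m K := by
  constructor
  · intro h
    obtain ⟨b, hb⟩ := exists_isLE_of_isPC h
    have hb' : K.IsLE b := (isLE_resD_iff φ K b).1 hb
    have h0 := Int.self_le_toNat (b - m + 1)
    exact isPC_of_resD_aux φ HB (b - m + 1).toNat m b K hb' (by omega) h
  · exact isPC_resD φ HB

end Groth.Agent.Helper6NC.PCm
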